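import Groth.Agent.Sga3B.InfConjFam
import Mathlib.AlgebraicGeometry.Morphisms.Immersion
import Mathlib.AlgebraicGeometry.Morphisms.Separated

/-!
# Affine neighbourhoods of the unit section of an immersed subgroup

* `hasAffineUnitNhd_of_immersion` : `i : H ⟶ G` a homomorphism of groups over `Spec C` which is an
  immersion, `G` affine over `Spec C`: the unit section of `H` has an affine open neighbourhood.
* `hasAffineUnitNhd_bc` : the same for base changes `Red.bc x H`, `x : Spec C ⟶ S`, when `G` is affine over `S`.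
-/

set_option autoImplicit false
universe u
open CategoryTheory MonoidalCategory CartesianMonoidalCategory MonObj GrpObj AlgebraicGeometry Limits

namespace Groth.Agent.RedSub.H642.UnitNhd

open Groth.Agent.Sga3B.InfConjFam

/-- In the spectrum of a ring, a closed subset contained in an open subset is contained in a basic open subset
contained in the open subset. -/
lemma exists_basicOpen_spec {A : Type u} [CommRing A] (Z V : Set (PrimeSpectrum A)) (hZ : IsClosed Z)
    (hV : IsOpen V) (hZV : Z ⊆ V) :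
    ∃ f : A, Z ⊆ PrimeSpectrum.basicOpen f ∧ (PrimeSpectrum.basicOpen f : Set (PrimeSpectrum A)) ⊆ V := by
  obtain ⟨I, rfl⟩ := (PrimeSpectrum.isClosed_iff_zeroLocus_ideal Z).mp hZ
  obtain ⟨J, hJ⟩ := (PrimeSpectrum.isClosed_iff_zeroLocus_ideal Vᶜ).mp hV.isClosed_compl
  have h1 : PrimeSpectrum.zeroLocus ((I ⊔ J : Ideal A) : Set A) = ∅ := by
    rw [PrimeSpectrum.zeroLocus_sup, ← hJ, ← Set.disjoint_iff_inter_eq_empty]
    exact Set.disjoint_compl_right_iff_subset.mpr hZV
  rw [PrimeSpectrum.zeroLocus_empty_iff_eq_top, Ideal.eq_top_iff_one, Submodule.mem_sup] at h1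
  obtain ⟨a, ha, b, hb, hab⟩ := h1
  refine ⟨b, ?_, ?_⟩
  · intro p hp
    rw [SetLike.mem_coe, PrimeSpectrum.mem_basicOpen]
    intro hbp
    have : (1 : A) ∈ p.asIdeal := by
      rw [← hab]
      exact add_mem (hp ha) hbp
    exact p.2.ne_top ((Ideal.eq_top_iff_one _).mpr this)
  · intro p hp
    by_contra hpV
    have : p ∈ PrimeSpectrum.zeroLocus (J : Set A) := by
      rw [← hJ]
      exact hpV
    exact hp (this hb)

/-- In an affine scheme a closed subset contained in an open subset is contained in an affine open subset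
contained in the open subset. -/
lemma exists_isAffineOpen {X : Scheme.{u}} [IsAffine X] (Z : Set X) (hZ : IsClosed Z) (V : X.Opens)
    (hZV : Z ⊆ V) : ∃ W : X.Opens, IsAffineOpen W ∧ Z ⊆ W ∧ W ≤ V := by
  have he : IsHomeomorph (X.isoSpec.inv : Spec Γ(X, ⊤) ⟶ X) := by
    exact (Scheme.homeoOfIso X.isoSpec.symm).isHomeomorph
  obtain ⟨f, h1, h2⟩ := exists_basicOpen_spec (A := Γ(X, ⊤)) ((X.isoSpec.inv : Spec Γ(X, ⊤) ⟶ X) ⁻¹' Z)
    ((X.isoSpec.inv : Spec Γ(X, ⊤) ⟶ X) ⁻¹' V) (hZ.preimage he.continuous)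
    (V.isOpen.preimage he.continuous) (Set.preimage_mono hZV)
  let D : (Spec Γ(X, ⊤)).Opens := PrimeSpectrum.basicOpen f
  have hD : IsAffineOpen D := IsAffineOpen.Spec_basicOpen f
  refine ⟨X.isoSpec.inv ''ᵁ D, hD.image_of_isOpenImmersion _, ?_, ?_⟩
  · intro z hz
    obtain ⟨y, rfl⟩ := he.surjective z
    exact ⟨y, h1 hz, rfl⟩
  · rintro _ ⟨y, hy, rfl⟩
    exact h2 hy

/-- The preimage under an immersion of an affine open contained in the coborder is affine. -/
lemma isAffineOpen_preimage {X Y : Scheme.{u}} (f : X ⟶ Y) [IsImmersion f] {W : Y.Opens}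
    (hW : IsAffineOpen W) (h : W ≤ f.coborderRange) : IsAffineOpen (f ⁻¹ᵁ W) := by
  have h1 : IsAffineOpen (f.coborderRange.ι ⁻¹ᵁ W) := by
    apply hW.preimage_of_isOpenImmersion
    rw [Scheme.Opens.opensRange_ι]
    exact h
  have h2 := h1.preimage f.liftCoborder
  rw [← Scheme.Hom.comp_preimage, Scheme.Hom.liftCoborder_ι] at h2
  exact h2

theorem hasAffineUnitNhd_of_immersion {R : CommRingCat.{u}} {G H : Over (Spec R)} [GrpObj G] [GrpObj H]
    (i : H ⟶ G) [IsMonHom i] [IsImmersion i.left] [IsAffineHom G.hom] : HasAffineUnitNhd H := by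
  have hG : IsAffine G.left := isAffine_of_isAffineHom G.hom
  have h0 : η[H].left ≫ i.left = η[G].left := by
    rw [← Over.comp_left, IsMonHom.one_hom]
  have h1 : IsClosedImmersion η[G].left := by
    have h2 : η[G].left ≫ G.hom = 𝟙 (Spec R) := Over.w η[G]
    have : IsClosedImmersion (η[G].left ≫ G.hom) := by
      rw [h2]; exact (inferInstance : IsClosedImmersion (𝟙 (Spec R)))
    exact IsClosedImmersion.of_comp _ G.hom
  have h2 : Set.range η[G].left ⊆ i.left.coborderRange := by
    rw [← h0]
    rintro _ ⟨x, rfl⟩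
    exact subset_coborder ⟨η[H].left x, rfl⟩
  obtain ⟨W, hW, hZW, hWV⟩ := exists_isAffineOpen (X := G.left) (Set.range η[G].left)
    η[G].left.isClosedEmbedding.isClosed_range i.left.coborderRange h2
  have h3 := isAffineOpen_preimage i.left hW hWV
  refine ⟨Γ(H.left, i.left ⁻¹ᵁ W), h3.fromSpec, h3.isOpenImmersion_fromSpec, ?_⟩
  rw [h3.range_fromSpec]
  rintro _ ⟨x, rfl⟩
  apply hZW
  rw [← h0]
  exact ⟨x, rfl⟩

/-- The base change of a morphism over `S` forms a cartesian square with the projections. -/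
lemma isPullback_map_left {S S' : Scheme.{u}} (f : S' ⟶ S) {Z Y : Over S} (i : Z ⟶ Y) :
    IsPullback (pullback.fst Z.hom f) ((Over.pullback f).map i).left i.left
      (pullback.fst Y.hom f) := by
  have hw : i.left ≫ Y.hom = Z.hom := Over.w i
  have h2 : IsPullback (pullback.fst Z.hom f) (pullback.snd Z.hom f) (i.left ≫ Y.hom) f := by
    rw [hw]
    exact IsPullback.of_hasPullback Z.hom f
  have h1 : pullback.fst Z.hom f ≫ i.left =
      ((Over.pullback f).map i).left ≫ pullback.fst Y.hom f :=
    (pullback.lift_fst _ _ _).symm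
  have h3 : ((Over.pullback f).map i).left ≫ pullback.snd Y.hom f = pullback.snd Z.hom f :=
    pullback.lift_snd _ _ _
  refine IsPullback.of_bot (h₂₁ := pullback.fst Y.hom f) (v₂₁ := pullback.snd Y.hom f)
    (v₂₂ := Y.hom) (h₃₁ := f) ?_ h1 (IsPullback.of_hasPullback Y.hom f)
  rw [h3]
  exact h2

lemma isImmersion_bc {S S' : Scheme.{u}} (f : S' ⟶ S) {Z Y : Over S} (i : Z ⟶ Y) [IsImmersion i.left] :
    IsImmersion ((Over.pullback f).map i).left :=
  MorphismProperty.of_isPullback (P := @IsImmersion) (isPullback_map_left f i) inferInstance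

/-- Base change of an immersed subgroup of an affine group: affine neighbourhoods of the unit section. -/
theorem hasAffineUnitNhd_bc {S : Scheme.{u}} {G H : Over S} [GrpObj G] [GrpObj H] (i : H ⟶ G) [IsMonHom i]
    [IsImmersion i.left] [IsAffineHom G.hom] {C : Type u} [CommRing C] (x : Spec (CommRingCat.of C) ⟶ S) :
    HasAffineUnitNhd (Red.bc x H) := by
  have h1 : IsImmersion ((Over.pullback x).map i).left := isImmersion_bc x i
  have h2 : IsAffineHom (Red.bc x G).hom := inferInstanceAs (IsAffineHom (pullback.snd _ _))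
  exact hasAffineUnitNhd_of_immersion ((Over.pullback x).map i)

end Groth.Agent.RedSub.H642.UnitNhd
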