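import Groth.Agent.Sga3B.Parab.IrrFib
import Groth.Agent.Sga3B.Parab.GeomFib147
import Groth.Agent.Sga3B.TorusIrr
import Groth.Agent.Etcore.SmoothRed

/-!
# Geometric fibres of quotients of groups with connected fibres are integral

* `isIntegral_geomFibre` : `G` reductive over `S`, `M` smooth over `S`, étale-locally on `S` there is a surjective
  morphism `G ⟶ M` over the base: the geometric fibres of `M` are integral.
-/

set_option autoImplicit false
universe u
open CategoryTheory MonoidalCategory CartesianMonoidalCategory MonObj GrpObj AlgebraicGeometry Limits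

namespace Groth.Agent.RedSub.H642.GeomInt

open Groth.Agent.Sga3B

/-- The square of a base change of a morphism over `S`. -/
lemma isPullback_map_left {S S' : Scheme.{u}} (f : S' ⟶ S) {Z Y : Over S} (i : Z ⟶ Y) :
    IsPullback (pullback.fst Z.hom f) ((Over.pullback f).map i).left i.left
      (pullback.fst Y.hom f) := by
  have hw : i.left ≫ Y.hom = Z.hom := Over.w i
  have h2 : IsPullback (pullback.fst Z.hom f) (pullback.snd Z.hom f) (i.left ≫ Y.hom) f := by
    rw [hw]
    exact IsPullback.of_hasPullback Z.hom f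
  have h1 : pullback.fst Z.hom f ≫ i.left =
      ((Over.pullback f).map i).left ≫ pullback.fst Y.hom f :=
    (pullback.lift_fst _ _ _).symm
  have h3 : ((Over.pullback f).map i).left ≫ pullback.snd Y.hom f = pullback.snd Z.hom f :=
    pullback.lift_snd _ _ _
  refine IsPullback.of_bot (h₂₁ := pullback.fst Y.hom f) (v₂₁ := pullback.snd Y.hom f)
    (v₂₂ := Y.hom) (h₃₁ := f) ?_ h1 (IsPullback.of_hasPullback Y.hom f)
  rw [h3]
  exact h2

/-- `G` affine and smooth over `S` with connected geometric fibres, `M` smooth over `S`, étale-locally on `S` a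
surjective morphism `G ⟶ M` over the base: the geometric fibres of `M` are integral. -/
theorem isIntegral_geomFibre_of {S : Scheme.{u}} (G : Over S) [GrpObj G] (h1 : IsAffineHom G.hom) (h2 : Smooth G.hom)
    (hc : ∀ s : S, ConnectedSpace (Red.geomFibre s G).left) (M : Over S) (hM : Smooth M.hom)
    (h : ∀ s : S, ∃ (V : Scheme.{u}) (v : V ⟶ S), Etale v ∧ s ∈ Set.range v ∧
      ∃ q : Red.bc v G ⟶ Red.bc v M, Surjective q.left) (s : S) :
    IsIntegral (Red.geomFibre s M).left := by
  obtain ⟨V, v, hv, ⟨s', rfl⟩, q, hq⟩ := h s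
  have hv' : LocallyQuasiFinite v := Groth.Agent.Desc.LQF.of_etale v
  obtain ⟨φ, hφ, hcomp⟩ := Parab.GeomFib147.exists_geomPt v s'
  have hξ : (inv φ ≫ Red.geomPt s') ≫ v = Red.geomPt (v s') := by
    rw [Category.assoc, hcomp, IsIso.inv_hom_id_assoc]
  have h3 : IsIntegral (Red.bc (Red.geomPt (v s')) G).left :=
    Parab.IrrFib.isIntegral_fibre G hc _
  have h4 : Smooth (Red.geomFibre (v s') M).hom := inferInstanceAs (Smooth (pullback.snd M.hom _))
  have h5 : IsReduced (Red.geomFibre (v s') M).left :=
    Groth.Agent.Etcore.SmoothRed.isReduced_of_smooth (Red.geomFibre (v s') M).hom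
  have h6 : IrreducibleSpace (Red.geomFibre (v s') M).left := by
    change IrreducibleSpace (Red.bc (Red.geomPt (v s')) M).left
    rw [← hξ] at h3 ⊢
    generalize (inv φ ≫ Red.geomPt s') = ξ at h3 ⊢
    let eG := (Over.pullbackComp ξ v).app G
    let eM := (Over.pullbackComp ξ v).app M
    have h7 : Surjective ((Over.pullback ξ).map q).left :=
      MorphismProperty.of_isPullback (P := @Surjective) (isPullback_map_left ξ q) hq
    have h8 : Surjective (eG.hom.left ≫ ((Over.pullback ξ).map q).left ≫ eM.inv.left) := inferInstance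
    have h9 : IrreducibleSpace (Red.bc (ξ ≫ v) G).left := inferInstance
    exact TorusIrr.irreducibleSpace_of_surjective (eG.hom.left ≫ ((Over.pullback ξ).map q).left ≫ eM.inv.left)
  exact isIntegral_of_irreducibleSpace_of_isReduced _

/-- Integrality of the geometric fibres of an étale-local image of a reductive group. -/
theorem isIntegral_geomFibre {S : Scheme.{u}} (G : Over S) [GrpObj G] (hG : Red.IsReductive G) (M : Over S)
    (hM : Smooth M.hom)
    (h : ∀ s : S, ∃ (V : Scheme.{u}) (v : V ⟶ S), Etale v ∧ s ∈ Set.range v ∧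
      ∃ q : Red.bc v G ⟶ Red.bc v M, Surjective q.left) (s : S) :
    IsIntegral (Red.geomFibre s M).left :=
  isIntegral_geomFibre_of G hG.1 hG.2.1 (fun t => (hG.2.2 t).2.2.1) M hM h s

/-- The same with a surjective morphism `G ⟶ M` over `S` itself. -/
theorem isIntegral_geomFibre_of_surjective {S : Scheme.{u}} (G : Over S) [GrpObj G] (h1 : IsAffineHom G.hom)
    (h2 : Smooth G.hom) (hc : ∀ s : S, ConnectedSpace (Red.geomFibre s G).left) (M : Over S) (hM : Smooth M.hom)
    (q : G ⟶ M) (hq : Surjective q.left) (s : S) : IsIntegral (Red.geomFibre s M).left :=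
  isIntegral_geomFibre_of G h1 h2 hc M hM (fun t => ⟨S, 𝟙 S, inferInstance, ⟨t, rfl⟩, (Over.pullback (𝟙 S)).map q,
    MorphismProperty.of_isPullback (P := @Surjective) (isPullback_map_left (𝟙 S) q) hq⟩) s

end Groth.Agent.RedSub.H642.GeomInt
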