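import Groth.Prelude.Def_RedSub
import Groth.Agent.Sga3B.CentRep

/-!
# The normaliser as the strict transporter of a subgroup into itself

* `conjEq_self_iff` : `RedSub.ConjEq i i g` is membership in `CentRep.normPts i`.
* `exists_isNormalizerOf` : if `c : C ⟶ G` represents the strict transporter of `i` into `i` then `C` has a
  group structure for which `c` is the normaliser of `i`.
-/

set_option autoImplicit false
universe u
open CategoryTheory MonoidalCategory CartesianMonoidalCategory MonObj GrpObj AlgebraicGeometry Limits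

namespace Groth.Agent.RedSub.H642.NormOfTransp

open Groth.Agent.Sga3B

variable {S : Scheme.{u}} {G H : Over S} [GrpObj G] [GrpObj H]

omit [GrpObj H] in
lemma conjEq_self_iff (i : H ⟶ G) {X : Over S} (g : X ⟶ G) :
    RedSub.ConjEq i i g ↔ g ∈ CentRep.normPts i X := by
  constructor
  · intro h X' x a
    exact ⟨(h X' x).1 a, (h X' x).2 a⟩
  · intro h X' x
    exact ⟨fun a => (h X' x a).1, fun a => (h X' x a).2⟩

/-- The strict transporter of a subgroup into itself is its normaliser. -/
theorem exists_isNormalizerOf (i : H ⟶ G) {C : Over S} (c : C ⟶ G) (hc : RedSub.IsStrictTransporter i i c) :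
    ∃ _ : GrpObj C, Red.IsNormalizerOf i c := by
  obtain ⟨hm, hc⟩ := hc
  have h1 : ∀ (T : Over S) (g : T ⟶ G), (∃ a : T ⟶ C, a ≫ c = g) ↔ g ∈ CentRep.normPts i T := fun T g =>
    (hc T g).trans (conjEq_self_iff i g)
  obtain ⟨iC, hmon⟩ := CentRep.exists_grpObj c (CentRep.normPts i) h1
  exact ⟨iC, hmon, hm, h1⟩

end Groth.Agent.RedSub.H642.NormOfTransp
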